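import Mathlib.GroupTheory.ClassEquation
import Mathlib.GroupTheory.Index
import Mathlib.Algebra.Order.BigOperators.Group.Multiset
import Mathlib.Algebra.BigOperators.Field
import Mathlib.Algebra.Order.Floor.Ring
import Mathlib.Data.Rat.Floor
import Mathlib.Tactic.FieldSimp
import Mathlib.Tactic.Linarith
import Mathlib.Data.Nat.Cast.Field

/-!
# Landau: groups with boundedly many classes have bounded order
-/

set_option autoImplicit false
set_option linter.style.haveILetI false

namespace CfsgLib.Bounded

universe u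

/-- A positive rational is a sum of `k` unit fractions with bounded denominators only. -/
theorem exists_denominator_bound : ∀ (k : ℕ) (r : ℚ), 0 < r → ∃ N : ℕ, ∀ m : Multiset ℕ,
    Multiset.card m = k → (∀ x ∈ m, 0 < x) → (m.map fun x : ℕ => (1 : ℚ) / x).sum = r →
      ∀ x ∈ m, x ≤ N := by
  classical
  intro k
  induction k with
  | zero =>
    intro r _
    refine ⟨0, fun m hm _ _ x hx => ?_⟩
    rw [Multiset.card_eq_zero.1 hm] at hx
    exact absurd hx (Multiset.notMem_zero x)
  | succ k ih =>
    intro r hr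
    let K := ⌈((k + 1 : ℕ) : ℚ) / r⌉₊
    have hN : ∀ n : ℕ, ∃ N : ℕ, ∀ m : Multiset ℕ, Multiset.card m = k → (∀ x ∈ m, 0 < x) →
        (m.map fun x : ℕ => (1 : ℚ) / x).sum = r - 1 / n → ∀ x ∈ m, x ≤ N := by
      intro n
      by_cases hn : 0 < r - 1 / (n : ℚ)
      · exact ih _ hn
      · refine ⟨0, fun m _ hpos hs x hx => absurd ?_ hn⟩
        rw [← hs]
        obtain ⟨m', rfl⟩ := Multiset.exists_cons_of_mem hx
        rw [Multiset.map_cons, Multiset.sum_cons]
        have h1 : (0 : ℚ) < 1 / x := by
          have := hpos x (Multiset.mem_cons_self x m')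
          positivity
        have h2 : 0 ≤ (m'.map fun x : ℕ => (1 : ℚ) / x).sum := Multiset.sum_nonneg fun y hy => by
          obtain ⟨z, _, rfl⟩ := Multiset.mem_map.1 hy
          positivity
        linarith
    choose N hN using hN
    refine ⟨max K ((Finset.range (K + 1)).sup N), fun m hm hpos hs => ?_⟩
    obtain ⟨n, hn, hmin⟩ := m.toFinset.exists_min_image id (by
      rw [Finset.nonempty_iff_ne_empty, Ne, Multiset.toFinset_eq_empty]
      rintro rfl
      simp at hm)
    rw [Multiset.mem_toFinset] at hn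
    have hnpos : (0 : ℚ) < n := by exact_mod_cast hpos n hn
    have hnK : n ≤ K := by
      have h1 : (m.map fun x : ℕ => (1 : ℚ) / x).sum ≤
          Multiset.card (m.map fun x : ℕ => (1 : ℚ) / x) • ((1 : ℚ) / n) := by
        refine Multiset.sum_le_card_nsmul _ _ fun y hy => ?_
        obtain ⟨z, hz, rfl⟩ := Multiset.mem_map.1 hy
        exact one_div_le_one_div_of_le hnpos (by exact_mod_cast hmin z (Multiset.mem_toFinset.2 hz))
      rw [Multiset.card_map, hm, hs, nsmul_eq_mul, mul_one_div] at h1
      have h2 : (n : ℚ) ≤ ((k + 1 : ℕ) : ℚ) / r := by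
        rw [le_div_iff₀ hnpos] at h1
        rw [le_div_iff₀ hr]
        linarith [mul_comm r (n : ℚ)]
      exact_mod_cast h2.trans (Nat.le_ceil _)
    obtain ⟨m', rfl⟩ := Multiset.exists_cons_of_mem hn
    rw [Multiset.map_cons, Multiset.sum_cons] at hs
    intro x hx
    rcases Multiset.mem_cons.1 hx with rfl | hx
    · exact le_max_of_le_left hnK
    · refine le_max_of_le_right ((hN n m' (by simpa using hm)
        (fun y hy => hpos y (Multiset.mem_cons_of_mem hy)) (by linarith) x hx).trans ?_)
      exact Finset.le_sup (f := N) (Finset.mem_range.2 (by omega))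

/-- **Landau's theorem**. -/
theorem exists_order_bound (k : ℕ) : ∃ N : ℕ, ∀ (G : Type u) [Group G] [Finite G],
    Nat.card (ConjClasses G) ≤ k → Nat.card G ≤ N := by
  classical
  choose N hN using fun j => exists_denominator_bound j 1 one_pos
  refine ⟨(Finset.range (k + 1)).sup N, fun G _ _ hk => ?_⟩
  haveI : Fintype G := Fintype.ofFinite G
  haveI : Fintype (ConjClasses G) := Fintype.ofFinite _
  let f : ConjClasses G → ℕ := fun c => Nat.card G / Nat.card c.carrier
  have hdvd : ∀ c : ConjClasses G, Nat.card c.carrier ∣ Nat.card G := by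
    intro c
    obtain ⟨g, rfl⟩ := ConjClasses.mk_surjective c
    rw [← ConjAct.orbit_eq_carrier_conjClasses,
      Nat.card_congr (MulAction.orbitEquivQuotientStabilizer (ConjAct G) g)]
    refine (Subgroup.index_dvd_card _).trans (dvd_of_eq ?_)
    exact Nat.card_congr ConjAct.ofConjAct.toEquiv
  have hpos : ∀ c : ConjClasses G, 0 < Nat.card c.carrier := by
    intro c
    obtain ⟨g, rfl⟩ := ConjClasses.mk_surjective c
    haveI : Nonempty (ConjClasses.mk g).carrier := ⟨⟨g, ConjClasses.mem_carrier_mk⟩⟩
    exact Nat.card_pos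
  let m : Multiset ℕ := (Finset.univ : Finset (ConjClasses G)).val.map f
  have hm : Multiset.card m = Nat.card (ConjClasses G) := by
    simp [m, Nat.card_eq_fintype_card]
  have hsum : (m.map fun x : ℕ => (1 : ℚ) / x).sum = 1 := by
    rw [Multiset.map_map]
    change ∑ c : ConjClasses G, (1 : ℚ) / ((f c : ℕ) : ℚ) = 1
    have h1 : ∀ c : ConjClasses G, (1 : ℚ) / ((f c : ℕ) : ℚ) =
        (Nat.card c.carrier : ℚ) / (Nat.card G : ℚ) := fun c => by
      rw [Nat.cast_div_charZero (hdvd c), one_div_div]
    rw [Finset.sum_congr rfl fun c _ => h1 c, ← Finset.sum_div, ← Nat.cast_sum]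
    rw [show ∑ c : ConjClasses G, Nat.card c.carrier = Nat.card G by
      rw [Nat.card_eq_fintype_card, ← sum_conjClasses_card_eq_card G]
      exact Finset.sum_congr rfl fun c _ => Nat.card_eq_card_toFinset _]
    exact div_self (Nat.cast_ne_zero.2 Nat.card_pos.ne')
  have h1 : Nat.card G ∈ m := by
    refine Multiset.mem_map.2 ⟨ConjClasses.mk 1, Finset.mem_univ _, ?_⟩
    have : Nat.card (ConjClasses.mk (1 : G)).carrier = 1 := by
      have h : (ConjClasses.mk (1 : G)).carrier = {1} := by
        ext x
        simp [ConjClasses.mem_carrier_iff_mk_eq, ConjClasses.mk_eq_mk_iff_isConj]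
      rw [h]
      simp
    show Nat.card G / Nat.card (ConjClasses.mk (1 : G)).carrier = Nat.card G
    rw [this, Nat.div_one]
  have hpos' : ∀ x ∈ m, 0 < x := by
    intro x hx
    obtain ⟨c, _, rfl⟩ := Multiset.mem_map.1 hx
    exact Nat.div_pos (Nat.le_of_dvd Nat.card_pos (hdvd c)) (hpos c)
  exact (hN _ m hm hpos' hsum _ h1).trans (Finset.le_sup (f := N) (Finset.mem_range.2 (by omega)))

end CfsgLib.Bounded
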