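import Mathlib.GroupTheory.Perm.Basic
import Mathlib.GroupTheory.GroupAction.Quotient
import Mathlib.GroupTheory.Index
import Mathlib.GroupTheory.QuotientGroup.Basic
import Mathlib.GroupTheory.Sylow
import Mathlib.GroupTheory.PGroup
import Mathlib.Data.Finite.Perm
import Mathlib.Data.SetLike.Fintype
import Mathlib.GroupTheory.OrderOfElement
import Mathlib.Algebra.Group.Subgroup.Order
import Mathlib.GroupTheory.Subgroup.Center
import Mathlib.GroupTheory.Perm.Cycle.Type
import Mathlib.GroupTheory.GroupAction.ConjAct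
import Mathlib.Tactic.Group
import Mathlib.Tactic.Linarith
import Mathlib.Tactic.Ring

/-!
# Brauer–Fowler bounds: groups with a four-group of involutions with small centralizers
-/

set_option autoImplicit false
set_option linter.style.haveILetI false
set_option linter.unusedSectionVars false

namespace CfsgLib.Bounded

universe u

section Aut

variable {N : Type*} [Group N] [Finite N]

/-- The fixed points of an automorphism. -/
abbrev fixedSet (σ : N ≃* N) : Set N := {x | σ x = x}

/-- The elements inverted by an automorphism. -/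
abbrev invertedSet (σ : N ≃* N) : Set N := {x | σ x = x⁻¹}

theorem card_le_fixed_mul_inverted (σ : N ≃* N) (hσ : ∀ x, σ (σ x) = x) :
    Nat.card N ≤ Nat.card (fixedSet σ) * Nat.card (invertedSet σ) := by
  classical
  let φ : N → invertedSet σ := fun x => ⟨x⁻¹ * σ x, by
    show σ (x⁻¹ * σ x) = (x⁻¹ * σ x)⁻¹
    rw [map_mul, map_inv, hσ, mul_inv_rev, inv_inv]⟩
  haveI : Nonempty N := ⟨1⟩
  let rep : N → N := fun x => Function.invFun φ (φ x)
  have hrep : ∀ x, φ (rep x) = φ x := fun x => Function.invFun_eq ⟨x, rfl⟩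
  let ψ : N → fixedSet σ × invertedSet σ := fun x => (⟨x * (rep x)⁻¹, by
    have h : (rep x)⁻¹ * σ (rep x) = x⁻¹ * σ x := congrArg Subtype.val (hrep x)
    show σ (x * (rep x)⁻¹) = x * (rep x)⁻¹
    have h2 : σ (rep x) = rep x * (x⁻¹ * σ x) := by rw [← h, mul_inv_cancel_left]
    rw [map_mul, map_inv, h2]
    group⟩, φ x)
  have hψ : Function.Injective ψ := by
    intro x y hxy
    simp only [ψ, Prod.mk.injEq, Subtype.mk.injEq] at hxy
    have : rep x = rep y := by simp only [rep, hxy.2]
    rw [this] at hxy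
    exact mul_right_cancel hxy.1
  rw [← Nat.card_prod]
  exact Nat.card_le_card_of_injective ψ hψ

theorem card_le_of_odd (hodd : Odd (Nat.card N)) (σ τ : N ≃* N) (hσ : ∀ x, σ (σ x) = x)
    (hτ : ∀ x, τ (τ x) = x) (hcomm : ∀ x, σ (τ x) = τ (σ x)) :
    Nat.card N ≤ Nat.card (fixedSet σ) *
      (Nat.card (fixedSet τ) * Nat.card (fixedSet (τ.trans σ))) := by
  classical
  obtain ⟨n, hn⟩ := hodd
  let h : N → N := fun x => x ^ (n + 1)
  have hh : ∀ x, h x * h x = x := fun x => by
    rw [← pow_add, show n + 1 + (n + 1) = Nat.card N + 1 by omega, pow_succ, pow_card_eq_one', one_mul]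
  refine (card_le_fixed_mul_inverted σ hσ).trans (Nat.mul_le_mul_left _ ?_)
  let s : N → N := fun y => h (y⁻¹ * τ y)
  have hs2 : ∀ y, τ (s y) = (s y)⁻¹ := fun y => by
    simp only [s, h, map_pow, map_mul, map_inv, hτ, ← inv_pow, mul_inv_rev, inv_inv]
  have key : ∀ y : invertedSet σ, τ ((y : N) * s y) = y * s y ∧
      σ ((y : N) * s y) = ((y : N) * s y)⁻¹ ∧
      σ (s y) = ((y : N) * s y) * (s y)⁻¹ * ((y : N) * s y)⁻¹ := by
    rintro ⟨y, hy⟩
    change σ y = y⁻¹ at hy
    have h1 : σ (y⁻¹ * τ y) = y * (y⁻¹ * τ y)⁻¹ * y⁻¹ := by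
      rw [map_mul, map_inv, hy, hcomm, hy, map_inv]
      group
    have h2 : σ (s y) = y * (s y)⁻¹ * y⁻¹ := by
      simp only [s, h, map_pow, h1, conj_pow, inv_pow]
    refine ⟨?_, ?_, ?_⟩
    · rw [map_mul, hs2]
      have h3 : τ y = y * (s y * s y) := by simp only [s, hh]; group
      rw [h3]
      group
    · rw [map_mul, hy, h2]; group
    · rw [h2]; group
  let w : invertedSet σ → N := fun y => (y : N) * s y
  let ψ : invertedSet σ → fixedSet τ × fixedSet (τ.trans σ) := fun y =>
    (⟨w y, (key y).1⟩, ⟨h (w y) * s y * (h (w y))⁻¹, by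
      obtain ⟨k1, k2, k3⟩ := key y
      have r1 : τ (h (w y)) = h (w y) := by simp only [h, map_pow, w, k1]
      have r2 : σ (h (w y)) = (h (w y))⁻¹ := by simp only [h, map_pow, w, k2, inv_pow]
      have r3 : σ (s y) = w y * (s y)⁻¹ * (w y)⁻¹ := k3
      show σ (τ (h (w y) * s y * (h (w y))⁻¹)) = h (w y) * s y * (h (w y))⁻¹
      rw [map_mul τ, map_mul τ, map_inv τ, r1, hs2]
      rw [map_mul, map_mul, map_inv, map_inv, r2, r3]
      have e3 : (h (w y))⁻¹ * w y = h (w y) := inv_mul_eq_iff_eq_mul.2 (hh _).symm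
      calc _ = ((h (w y))⁻¹ * w y) * s y * ((h (w y))⁻¹ * w y)⁻¹ := by group
        _ = _ := by rw [e3]⟩)
  have hψ : Function.Injective ψ := by
    intro y y' hyy
    simp only [ψ, Prod.mk.injEq, Subtype.mk.injEq] at hyy
    obtain ⟨e1, e2⟩ := hyy
    rw [e1] at e2
    have e3 : s y = s y' := mul_left_cancel (mul_right_cancel e2)
    have e4 : (y : N) * s y = y' * s y' := e1
    rw [e3] at e4
    exact Subtype.ext (mul_right_cancel e4)
  rw [← Nat.card_prod]
  exact Nat.card_le_card_of_injective ψ hψ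

/-- Brauer–Fowler. -/
theorem exists_large_centralizer (σ : N ≃* N) (hσ : ∀ x, σ (σ x) = x) {c : ℕ}
    (hc : Nat.card (fixedSet σ) ≤ c) :
    Nat.card N ≤ 2 * c ^ 2 ∨ ∃ q : N, q ≠ 1 ∧
      (Subgroup.centralizer ({q} : Set N)).index ≤ 2 * c ^ 2 := by
  classical
  haveI : Fintype N := Fintype.ofFinite N
  by_contra hcon
  push Not at hcon
  obtain ⟨hbig, hq⟩ := hcon
  set n := 2 * c ^ 2 with hn
  let I : Finset N := Finset.univ.filter fun x => σ x = x⁻¹
  have hI : Nat.card (invertedSet σ) = I.card := by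
    rw [Nat.card_eq_fintype_card, Fintype.card_subtype]
    rfl
  have h1 : Nat.card N ≤ c * I.card :=
    hI ▸ (card_le_fixed_mul_inverted σ hσ).trans (Nat.mul_le_mul_right _ hc)
  let fib : N → Finset (N × N) := fun q => (I ×ˢ I).filter fun p => p.1 * p.2⁻¹ = q
  have hsplit : (I ×ˢ I).card = ∑ q, (fib q).card :=
    Finset.card_eq_sum_card_fiberwise (f := fun p : N × N => p.1 * p.2⁻¹) fun _ _ => Finset.mem_univ _
  have hone : (fib 1).card ≤ I.card := by
    refine Finset.card_le_card_of_injOn Prod.fst ?_ ?_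
    · intro p hp
      exact (Finset.mem_product.1 (Finset.mem_filter.1 hp).1).1
    · intro p hp p' hp' he
      have e1 := mul_inv_eq_one.1 (Finset.mem_filter.1 hp).2
      have e2 := mul_inv_eq_one.1 (Finset.mem_filter.1 hp').2
      exact Prod.ext he (by rw [← e1, ← e2]; exact he)
  have hfib : ∀ q, (fib q).card ≤ Nat.card (Subgroup.centralizer ({q} : Set N)) := by
    intro q
    rcases Finset.eq_empty_or_nonempty (fib q) with h0 | ⟨p₀, hp₀⟩
    · simp [h0]
    rw [Nat.card_eq_fintype_card, ← Finset.card_univ]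
    have prop : ∀ p ∈ fib q, p.1 * σ q * p.1⁻¹ = q⁻¹ := by
      intro p hp
      obtain ⟨hp1, hp2⟩ := Finset.mem_filter.1 hp
      obtain ⟨a, b⟩ := Finset.mem_product.1 hp1
      rw [← hp2, map_mul, map_inv, (Finset.mem_filter.1 a).2, (Finset.mem_filter.1 b).2]
      group
    have hmem : ∀ p ∈ fib q, p.1 * p₀.1⁻¹ ∈ Subgroup.centralizer ({q} : Set N) := by
      intro p hp
      rw [Subgroup.mem_centralizer_singleton_iff]
      have e0 : p₀.1⁻¹ * q⁻¹ * p₀.1 = σ q := by rw [← prop p₀ hp₀]; group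
      have e1 : p.1 * p₀.1⁻¹ * q⁻¹ * (p.1 * p₀.1⁻¹)⁻¹ = q⁻¹ :=
        calc p.1 * p₀.1⁻¹ * q⁻¹ * (p.1 * p₀.1⁻¹)⁻¹
            = p.1 * (p₀.1⁻¹ * q⁻¹ * p₀.1) * p.1⁻¹ := by group
          _ = q⁻¹ := by rw [e0, prop p hp]
      have e2 := congrArg (·⁻¹) e1
      simp only [mul_inv_rev, inv_inv, ← mul_assoc] at e2
      exact mul_inv_eq_iff_eq_mul.1 (by rw [mul_inv_rev, inv_inv, ← mul_assoc]; exact e2)
    refine Finset.card_le_card_of_injOn (fun p => if hp : p ∈ fib q then (⟨p.1 * p₀.1⁻¹, hmem p hp⟩ :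
      Subgroup.centralizer ({q} : Set N)) else 1) (fun _ _ => Finset.mem_univ _) ?_
    intro p hp p' hp' he
    simp only [Finset.mem_coe] at hp hp'
    simp only [dif_pos hp, dif_pos hp', Subtype.mk.injEq, mul_left_inj] at he
    refine Prod.ext he ?_
    have e1 := (Finset.mem_filter.1 hp).2
    have e2 := (Finset.mem_filter.1 hp').2
    rw [he, ← e2] at e1
    exact inv_injective (mul_left_cancel e1)
  have hlt : ∀ q : N, q ≠ 1 →
      (n + 1) * Nat.card (Subgroup.centralizer ({q} : Set N)) ≤ Nat.card N := fun q h0 => by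
    have hidx := Subgroup.index_mul_card (Subgroup.centralizer ({q} : Set N))
    rw [← hidx]
    exact Nat.mul_le_mul_right _ (hq q h0)
  have hrest : (n + 1) * ∑ q ∈ Finset.univ.erase (1 : N), (fib q).card ≤ Nat.card N * Nat.card N := by
    rw [Finset.mul_sum]
    calc ∑ q ∈ Finset.univ.erase (1 : N), (n + 1) * (fib q).card
        ≤ ∑ _q ∈ Finset.univ.erase (1 : N), Nat.card N :=
          Finset.sum_le_sum fun q hq' => (Nat.mul_le_mul_left _ (hfib q)).trans
            (hlt q (Finset.ne_of_mem_erase hq'))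
      _ ≤ Nat.card N * Nat.card N := by
          rw [Finset.sum_const, smul_eq_mul, Nat.card_eq_fintype_card, ← Finset.card_univ]
          exact Nat.mul_le_mul_right _ (Finset.card_erase_le)
  rw [← Finset.add_sum_erase Finset.univ _ (Finset.mem_univ (1 : N)), Finset.card_product] at hsplit
  set S := ∑ q ∈ Finset.univ.erase (1 : N), (fib q).card
  set m := I.card
  set g := Nat.card N
  -- m² ≤ m + S with g ≤ c m and (n + 1) S ≤ g²
  have h2 : (n + 1) * (m * m) ≤ (n + 1) * m + g * g := by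
    calc (n + 1) * (m * m) ≤ (n + 1) * (m + S) := Nat.mul_le_mul_left _ (by omega)
      _ = (n + 1) * m + (n + 1) * S := Nat.mul_add _ _ _
      _ ≤ _ := by omega
  have h3 : g * g ≤ c ^ 2 * (m * m) := (Nat.mul_le_mul h1 h1).trans_eq (by ring)
  have hm : 2 * c < m := by
    by_contra hle
    have h5 := h1.trans (Nat.mul_le_mul_left c (not_lt.1 hle))
    have h6 : c * (2 * c) = n := by rw [hn]; ring
    omega
  have h4 : (c ^ 2 + 1) * m * m ≤ (n + 1) * m := by
    have e : (n + 1) * (m * m) = c ^ 2 * (m * m) + (c ^ 2 + 1) * m * m := by rw [hn]; ring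
    omega
  have h5 : (c ^ 2 + 1) * m ≤ n + 1 := Nat.le_of_mul_le_mul_right h4 (by omega)
  have h6 : (c ^ 2 + 1) * 2 ≤ (c ^ 2 + 1) * m := by
    refine Nat.mul_le_mul_left _ ?_
    rcases Nat.eq_zero_or_pos c with rfl | hc0
    · simp only [zero_mul, nonpos_iff_eq_zero] at h1
      exact absurd h1 Nat.card_pos.ne'
    · omega
  omega

end Aut

section Group

variable {G : Type*} [Group G] [Finite G]

/-- Conjugation by `e` on a normal subgroup. -/
abbrev conjOn (N : Subgroup G) [N.Normal] (e : G) : N ≃* N := MulAut.conjNormal e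

theorem conjOn_conjOn {N : Subgroup G} [N.Normal] {e : G} (he : e * e = 1) (x : N) :
    conjOn N e (conjOn N e x) = x := by
  rw [← MulAut.mul_apply, ← map_mul, he, map_one, MulAut.one_apply]

theorem card_fixedSet_conjOn (N : Subgroup G) [N.Normal] (e : G) :
    Nat.card (fixedSet (conjOn N e)) ≤ Nat.card (Subgroup.centralizer ({e} : Set G)) := by
  refine Nat.card_le_card_of_injective (fun x => ⟨((x : N) : G), ?_⟩) ?_
  · rw [Subgroup.mem_centralizer_singleton_iff]
    have h := congrArg Subtype.val x.2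
    rw [MulAut.conjNormal_apply] at h
    exact (mul_inv_eq_iff_eq_mul.1 h).symm
  · intro x y h
    exact Subtype.ext (Subtype.ext (congrArg Subtype.val h :))

theorem card_le_of_odd_normal (N : Subgroup G) [N.Normal] (hodd : Odd (Nat.card N)) {e f : G}
    (he : e * e = 1) (hf : f * f = 1) (hef : e * f = f * e) {c : ℕ}
    (h1 : Nat.card (Subgroup.centralizer ({e} : Set G)) ≤ c)
    (h2 : Nat.card (Subgroup.centralizer ({f} : Set G)) ≤ c)
    (h3 : Nat.card (Subgroup.centralizer ({e * f} : Set G)) ≤ c) :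
    Nat.card N ≤ c * (c * c) := by
  refine (card_le_of_odd hodd (conjOn N e) (conjOn N f) (conjOn_conjOn he) (conjOn_conjOn hf) ?_).trans ?_
  · intro x
    rw [← MulAut.mul_apply, ← MulAut.mul_apply, ← map_mul, ← map_mul, hef]
  · refine Nat.mul_le_mul ((card_fixedSet_conjOn N e).trans h1)
      (Nat.mul_le_mul ((card_fixedSet_conjOn N f).trans h2) ?_)
    have : (conjOn N f).trans (conjOn N e) = conjOn N (e * f) := by
      rw [conjOn, conjOn, conjOn, map_mul]; rfl
    rw [this]
    exact (card_fixedSet_conjOn N (e * f)).trans h3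

theorem card_centralizer_quotient_le (N : Subgroup G) [N.Normal] (e : G) :
    Nat.card (Subgroup.centralizer ({(e : G ⧸ N)} : Set (G ⧸ N))) ≤
      Nat.card (Subgroup.centralizer ({e} : Set G)) * Nat.card N := by
  classical
  let C := Subgroup.centralizer ({(e : G ⧸ N)} : Set (G ⧸ N))
  have hout : ∀ q : C, e⁻¹ * ((q : G ⧸ N).out * e * (q : G ⧸ N).out⁻¹) ∈ N := by
    intro q
    rw [← QuotientGroup.eq_one_iff, QuotientGroup.mk_mul, QuotientGroup.mk_inv, QuotientGroup.mk_mul,
      QuotientGroup.mk_mul, QuotientGroup.mk_inv, QuotientGroup.out_eq']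
    rw [Subgroup.mem_centralizer_singleton_iff.1 q.2]
    group
  let φ : C → N := fun q => ⟨_, hout q⟩
  haveI : Nonempty C := ⟨1⟩
  let rep : C → C := fun q => Function.invFun φ (φ q)
  have hrep : ∀ q, φ (rep q) = φ q := fun q => Function.invFun_eq ⟨q, rfl⟩
  let ψ : C → Subgroup.centralizer ({e} : Set G) × N := fun q =>
    (⟨((rep q : G ⧸ N).out)⁻¹ * (q : G ⧸ N).out, by
      have h := congrArg Subtype.val (hrep q)
      simp only [φ, mul_right_inj] at h
      rw [Subgroup.mem_centralizer_singleton_iff]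
      calc (rep q : G ⧸ N).out⁻¹ * (q : G ⧸ N).out * e
          = (rep q : G ⧸ N).out⁻¹ * ((q : G ⧸ N).out * e * (q : G ⧸ N).out⁻¹) * (q : G ⧸ N).out := by
            group
        _ = e * ((rep q : G ⧸ N).out⁻¹ * (q : G ⧸ N).out) := by rw [← h]; group⟩, φ q)
  have hψ : Function.Injective ψ := by
    intro x y hxy
    simp only [ψ, Prod.mk.injEq, Subtype.mk.injEq] at hxy
    have : rep x = rep y := by simp only [rep, hxy.2]
    rw [this] at hxy
    refine Subtype.ext ?_
    rw [← QuotientGroup.out_eq' (x : G ⧸ N), ← QuotientGroup.out_eq' (y : G ⧸ N),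
      mul_left_cancel hxy.1]
  rw [← Nat.card_prod]
  exact Nat.card_le_card_of_injective ψ hψ

theorem exists_proper_normal_small {N : Type*} [Group N] [Finite N] (H : Subgroup N) (hH : H ≠ ⊤) :
    ∃ M : Subgroup N, M.Normal ∧ M ≠ ⊤ ∧ M.index ≤ H.index.factorial := by
  refine ⟨H.normalCore, inferInstance, fun h => hH (top_le_iff.1 (h ▸ H.normalCore_le)), ?_⟩
  rw [Subgroup.normalCore_eq_ker, Subgroup.index_ker]
  refine (Nat.le_of_dvd ?_ (Subgroup.card_subgroup_dvd_card _)).trans ?_
  · exact Nat.card_pos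
  · rw [Nat.card_perm, ← Subgroup.index]

/-- A minimal normal subgroup of even order is bounded. -/
theorem minimal_normal_bound {a c : ℕ} (hG : ¬ 2 ^ (a + 1) ∣ Nat.card G) (N : Subgroup G) [N.Normal]
    (hne : N ≠ ⊥) (hmin : ∀ L : Subgroup G, L.Normal → L ≤ N → L ≠ ⊥ → L = N)
    (heven : 2 ∣ Nat.card N) {e : G} (he : e * e = 1)
    (hc : Nat.card (Subgroup.centralizer ({e} : Set G)) ≤ c) :
    Nat.card N ≤ 2 ^ a + (2 * c ^ 2).factorial ^ a := by
  classical
  haveI : Fact (Nat.Prime 2) := ⟨Nat.prime_two⟩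
  haveI : Nontrivial N := (Subgroup.nontrivial_iff_ne_bot N).2 hne
  have hchar : ∀ L : Subgroup N, L.Characteristic → L ≠ ⊥ → L = ⊤ := by
    intro L hL hL0
    haveI : (L.map N.subtype).Normal := inferInstance
    have h := hmin (L.map N.subtype) inferInstance (Subgroup.map_subtype_le L)
      (fun h => hL0 ((Subgroup.map_eq_bot_iff_of_injective L N.subtype_injective).1 h))
    refine Subgroup.map_injective N.subtype_injective ?_
    rw [h, ← MonoidHom.range_eq_map, Subgroup.range_subtype]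
  by_cases hz : Subgroup.center N = ⊥
  swap
  · -- abelian
    have hab := hchar _ inferInstance hz
    have hcomm : ∀ x y : N, x * y = y * x := fun x y =>
      (Subgroup.mem_center_iff.1 (hab ▸ Subgroup.mem_top x) y).symm
    let L : Subgroup N :=
      { carrier := {x | x * x = 1}
        one_mem' := one_mul 1
        mul_mem' := fun {x y} hx hy => by
          show x * y * (x * y) = 1
          rw [mul_assoc, ← mul_assoc y, hcomm y x, mul_assoc, hy, mul_one]; exact hx
        inv_mem' := fun {x} hx => by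
          show x⁻¹ * x⁻¹ = 1
          rw [← mul_inv_rev, hx, inv_one] }
    have hLc : L.Characteristic := ⟨fun φ => by
      ext x
      show φ x * φ x = 1 ↔ x * x = 1
      rw [← map_mul, EmbeddingLike.map_eq_one_iff]⟩
    obtain ⟨x, hx⟩ := exists_prime_orderOf_dvd_card' (G := N) 2 heven
    have hL := hchar L hLc fun h => by
      have h1 : x ∈ L := by
        show x * x = 1
        rw [← sq, ← hx, pow_orderOf_eq_one]
      rw [h, Subgroup.mem_bot] at h1
      rw [h1, orderOf_one] at hx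
      omega
    have h2 : IsPGroup 2 N := fun y => ⟨1, by
      have : y ∈ L := hL ▸ Subgroup.mem_top y
      rw [pow_one, sq]; exact this⟩
    obtain ⟨j, hj⟩ := IsPGroup.iff_card.1 h2
    have hja : j ≤ a := by
      by_contra hlt
      exact hG ((pow_dvd_pow 2 (by omega)).trans (hj ▸ Subgroup.card_subgroup_dvd_card N))
    exact le_add_of_le_of_nonneg (hj ▸ Nat.pow_le_pow_right (by norm_num) hja) (Nat.zero_le _)
  -- a small nontrivial quotient
  obtain ⟨M₀, hM₀, hM₀t, hM₀i⟩ : ∃ M : Subgroup N, M.Normal ∧ M ≠ ⊤ ∧ M.index ≤ (2 * c ^ 2).factorial := by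
    rcases exists_large_centralizer (conjOn N e) (conjOn_conjOn he)
      ((card_fixedSet_conjOn N e).trans hc) with h | ⟨q, hq1, hq⟩
    · exact ⟨⊥, inferInstance, bot_ne_top, by
        rw [Subgroup.index_bot]; exact h.trans (Nat.self_le_factorial _)⟩
    · obtain ⟨M, h1, h2, h3⟩ := exists_proper_normal_small (Subgroup.centralizer ({q} : Set N)) (by
        intro h
        have : q ∈ Subgroup.center N := Subgroup.mem_center_iff.2 fun y =>
          Subgroup.mem_centralizer_singleton_iff.1 (h ▸ Subgroup.mem_top y)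
        rw [hz, Subgroup.mem_bot] at this
        exact hq1 this)
      exact ⟨M, h1, h2, h3.trans (Nat.factorial_le hq)⟩
  obtain ⟨M, hM, hmax⟩ := (Finite.exists_le_maximal (p := fun M : Subgroup N => M.Normal ∧ M ≠ ⊤)
    (a := M₀) ⟨hM₀, hM₀t⟩)
  haveI := hmax.prop.1
  set s := M.index with hs
  have hsle : s ≤ (2 * c ^ 2).factorial :=
    (Nat.le_of_dvd (Nat.pos_of_ne_zero Subgroup.index_ne_zero_of_finite)
      (Subgroup.index_dvd_of_le hM)).trans hM₀i
  -- the conjugates of `M`
  haveI : Fintype (Subgroup N) := Fintype.ofFinite _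
  let F : Finset (Subgroup N) :=
    Finset.univ.filter fun L => ∃ g : G, L = M.map (conjOn N g).toMonoidHom
  have hFprop : ∀ L ∈ F, L.Normal ∧ L.index = s ∧
      ∀ L' : Subgroup N, L'.Normal → L < L' → L' = ⊤ := by
    intro L hL
    obtain ⟨g, rfl⟩ := (Finset.mem_filter.1 hL).2
    refine ⟨Subgroup.Normal.map inferInstance _ (conjOn N g).surjective, ?_, ?_⟩
    · exact Subgroup.index_map_equiv M (conjOn N g)
    · intro L' hL' hlt
      by_contra ht
      have hle : M ≤ L'.comap (conjOn N g).toMonoidHom := Subgroup.map_le_iff_le_comap.1 hlt.le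
      have := hmax.eq_of_le ⟨hL'.comap _, fun h => ht (by
        rw [← Subgroup.map_comap_eq_self_of_surjective (f := (conjOn N g).toMonoidHom)
          (conjOn N g).surjective L', h, ← MonoidHom.range_eq_map]
        exact MonoidHom.range_eq_top.2 (conjOn N g).surjective)⟩ hle
      rw [this, Subgroup.map_comap_eq_self_of_surjective (f := (conjOn N g).toMonoidHom) (conjOn N g).surjective L'] at hlt
      exact lt_irrefl _ hlt
  have hchain : ∀ F' : Finset (Subgroup N), F' ⊆ F →
      ∃ j : ℕ, (F'.inf id).Normal ∧ (F'.inf id).index = s ^ j := by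
    intro F'
    induction F' using Finset.induction_on with
    | empty => exact fun _ => ⟨0, by rw [Finset.inf_empty]; infer_instance, by simp⟩
    | @insert L F' hL ih =>
      intro hsub
      obtain ⟨j, hn, hj⟩ := ih fun x hx => hsub (Finset.mem_insert_of_mem hx)
      obtain ⟨hLn, hLi, hLmax⟩ := hFprop L (hsub (Finset.mem_insert_self L F'))
      haveI := hLn
      haveI := hn
      rw [Finset.inf_insert, id_eq]
      by_cases hle : F'.inf id ≤ L
      · exact ⟨j, by rw [inf_eq_right.2 hle]; exact hn, by rw [inf_eq_right.2 hle]; exact hj⟩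
      · refine ⟨j + 1, Subgroup.normal_inf_normal _ _, ?_⟩
        have htop : F'.inf id ⊔ L = ⊤ := by
          refine hLmax _ inferInstance (lt_of_le_of_ne le_sup_right fun h => hle ?_)
          rw [h]
          exact le_sup_left
        have h1 : L.relIndex (F'.inf id) = s := by
          rw [← hLi, ← Subgroup.relIndex_top_right L, ← htop, Subgroup.relIndex_sup_right]
        rw [← Subgroup.relIndex_mul_index (inf_le_right : L ⊓ F'.inf id ≤ F'.inf id),
          Subgroup.inf_relIndex_right, h1, hj, pow_succ, mul_comm]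
  obtain ⟨k, -, hk⟩ := hchain F subset_rfl
  have hbot : F.inf id = ⊥ := by
    by_contra hb
    have memInf : ∀ {F' : Finset (Subgroup N)} {x : N}, x ∈ F'.inf id ↔ ∀ L ∈ F', x ∈ L := by
      intro F' x
      induction F' using Finset.induction_on <;> simp [*]
    have hconj : ∀ (g : G) (x : N), x ∈ F.inf id → conjOn N g x ∈ F.inf id := by
      intro g x hx
      rw [memInf] at hx ⊢
      intro L hL
      obtain ⟨g', rfl⟩ := (Finset.mem_filter.1 hL).2
      obtain ⟨y, hy, hxy⟩ := hx (M.map (conjOn N (g⁻¹ * g')).toMonoidHom)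
        (Finset.mem_filter.2 ⟨Finset.mem_univ _, _, rfl⟩)
      refine ⟨y, hy, ?_⟩
      simp only [MulEquiv.coe_toMonoidHom] at hxy ⊢
      rw [← hxy, ← MulAut.mul_apply, ← map_mul, mul_inv_cancel_left]
    have hnorm : ((F.inf id).map N.subtype).Normal := ⟨fun x hx g => by
      obtain ⟨y, hy, rfl⟩ := hx
      exact ⟨conjOn N g y, hconj g y hy, MulAut.conjNormal_apply g y⟩⟩
    have h := hmin _ hnorm (Subgroup.map_subtype_le _)
      (fun h => hb ((Subgroup.map_eq_bot_iff_of_injective _ N.subtype_injective).1 h))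
    have h2 : F.inf id ≤ M := by
      refine Finset.inf_le (f := id) (Finset.mem_filter.2 ⟨Finset.mem_univ _, 1, ?_⟩)
      rw [show conjOn N (1 : G) = MulEquiv.refl N from map_one _]
      exact (Subgroup.map_id M).symm
    refine hmax.prop.2 (top_le_iff.1 (le_trans (le_of_eq ?_) h2))
    refine Subgroup.map_injective N.subtype_injective ?_
    rw [h, ← MonoidHom.range_eq_map, Subgroup.range_subtype]
  rw [hbot, Subgroup.index_bot] at hk
  have hs2 : 2 ∣ s := Nat.prime_two.dvd_of_dvd_pow (hk ▸ heven)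
  have hka : k ≤ a := by
    by_contra hlt
    refine hG ((pow_dvd_pow 2 (by omega : a + 1 ≤ k)).trans ?_)
    exact (pow_dvd_pow_of_dvd hs2 k).trans (hk ▸ Subgroup.card_subgroup_dvd_card N)
  refine le_add_of_nonneg_of_le (Nat.zero_le _) ?_
  rw [hk]
  exact (Nat.pow_le_pow_left hsle k).trans (Nat.pow_le_pow_right (Nat.factorial_pos _) hka)

end Group

/-- Groups with a four-group of involutions with small centralizers are bounded. -/
theorem four_bound : ∀ a c : ℕ, ∃ B : ℕ, ∀ (G : Type u) [Group G] [Finite G] (e f : G),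
    ¬ 2 ^ (a + 1) ∣ Nat.card G → e * e = 1 → f * f = 1 → e * f = f * e → e ≠ 1 → f ≠ 1 → e ≠ f →
    Nat.card (Subgroup.centralizer ({e} : Set G)) ≤ c →
    Nat.card (Subgroup.centralizer ({f} : Set G)) ≤ c →
    Nat.card (Subgroup.centralizer ({e * f} : Set G)) ≤ c → Nat.card G ≤ B := by
  intro a
  induction a with
  | zero =>
    intro c
    refine ⟨0, fun G _ _ e f hG he _ _ he1 _ _ _ _ _ => absurd ?_ hG⟩
    have h : orderOf e = 2 := orderOf_eq_prime (by rw [sq]; exact he) he1
    rw [zero_add, pow_one, ← h]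
    exact orderOf_dvd_natCard e
  | succ a ih =>
    intro c
    classical
    set O := c * (c * c)
    set c₁ := c * O
    set NB := 2 ^ (a + 1) + (2 * c₁ ^ 2).factorial ^ (a + 1)
    obtain ⟨B, hB⟩ := ih (c₁ * NB)
    refine ⟨(B * NB + NB * c₁) * O, fun G _ _ e f hG he hf hef he1 hf1 hne h1 h2 h3 => ?_⟩
    haveI : Fintype (Subgroup G) := Fintype.ofFinite _
    obtain ⟨R, hR, hRmax⟩ :=
      (Finset.univ.filter fun R : Subgroup G => R.Normal ∧ Odd (Nat.card R)).exists_max_image
        (fun R => Nat.card R)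
        ⟨⊥, Finset.mem_filter.2 ⟨Finset.mem_univ _, inferInstance, by simp⟩⟩
    obtain ⟨hRn, hRodd⟩ := (Finset.mem_filter.1 hR).2
    haveI := hRn
    have hRle : Nat.card R ≤ O := card_le_of_odd_normal R hRodd he hf hef h1 h2 h3
    have notin : ∀ x : G, x * x = 1 → x ≠ 1 → x ∉ R := by
      intro x hx hx1 hxR
      have h : orderOf x = 2 := orderOf_eq_prime (by rw [sq]; exact hx) hx1
      have := hRodd.of_dvd_nat (h ▸ Subgroup.orderOf_dvd_natCard R hxR)
      exact absurd this (by decide)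
    have hef2 : e * f * (e * f) = 1 := by
      rw [mul_assoc, ← mul_assoc f, ← hef, mul_assoc, hf, mul_one, he]
    have hef1 : e * f ≠ 1 := fun h => hne (by
      rw [← mul_one e, ← hf, ← mul_assoc, h, one_mul])
    have hG' : ∀ (H : Type u) [Group H] [Finite H], Nat.card H ∣ Nat.card G →
        ¬ 2 ^ (a + 1 + 1) ∣ Nat.card H := fun H _ _ hd h => hG (h.trans hd)
    have hdR : Nat.card (G ⧸ R) ∣ Nat.card G :=
      ⟨Nat.card R, Subgroup.card_eq_card_quotient_mul_card_subgroup R⟩
    have cb : ∀ x : G, Nat.card (Subgroup.centralizer ({x} : Set G)) ≤ c →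
        Nat.card (Subgroup.centralizer ({(x : G ⧸ R)} : Set (G ⧸ R))) ≤ c₁ := fun x hx =>
      (card_centralizer_quotient_le R x).trans (Nat.mul_le_mul hx hRle)
    rw [Subgroup.card_eq_card_quotient_mul_card_subgroup R]
    refine Nat.mul_le_mul ?_ hRle
    -- work in `G ⧸ R`
    haveI : Nontrivial (G ⧸ R) := ⟨⟨(e : G ⧸ R), 1,
      fun h => notin e he he1 ((QuotientGroup.eq_one_iff e).1 h)⟩⟩
    haveI : Fintype (Subgroup (G ⧸ R)) := Fintype.ofFinite _
    obtain ⟨N, hN, hNmin⟩ :=
      (Finset.univ.filter fun N : Subgroup (G ⧸ R) => N.Normal ∧ N ≠ ⊥).exists_min_image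
        (fun N => Nat.card N)
        ⟨⊤, Finset.mem_filter.2 ⟨Finset.mem_univ _, inferInstance, top_ne_bot⟩⟩
    obtain ⟨hNn, hN0⟩ := (Finset.mem_filter.1 hN).2
    haveI := hNn
    have hmin : ∀ L : Subgroup (G ⧸ R), L.Normal → L ≤ N → L ≠ ⊥ → L = N := fun L hL hle hL0 =>
      Subgroup.eq_of_le_of_card_ge hle (hNmin L (Finset.mem_filter.2 ⟨Finset.mem_univ _, hL, hL0⟩))
    have heven : 2 ∣ Nat.card N := by
      rw [← even_iff_two_dvd, ← Nat.not_odd_iff_even]
      intro hodd
      have hgt : 1 < Nat.card N := (Subgroup.one_lt_card_iff_ne_bot N).2 hN0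
      have hcard : Nat.card (N.comap (QuotientGroup.mk' R)) = Nat.card R * Nat.card N := by
        have e1 := Subgroup.card_mul_index (N.comap (QuotientGroup.mk' R))
        rw [Subgroup.index_comap_of_surjective _ (QuotientGroup.mk'_surjective R),
          Subgroup.card_eq_card_quotient_mul_card_subgroup R, ← Subgroup.card_mul_index N] at e1
        refine Nat.eq_of_mul_eq_mul_right (Nat.pos_of_ne_zero
          (Subgroup.index_ne_zero_of_finite (H := N))) ?_
        rw [e1]; ring
      have h := hRmax (N.comap (QuotientGroup.mk' R)) (Finset.mem_filter.2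
        ⟨Finset.mem_univ _, Subgroup.Normal.comap hNn _, hcard ▸ hRodd.mul hodd⟩)
      rw [hcard] at h
      have := Nat.card_pos (α := R)
      nlinarith
    have he' : (e : G ⧸ R) * (e : G ⧸ R) = 1 := by rw [← QuotientGroup.mk_mul, he]; rfl
    have hf' : (f : G ⧸ R) * (f : G ⧸ R) = 1 := by rw [← QuotientGroup.mk_mul, hf]; rfl
    have hef' : (e : G ⧸ R) * (f : G ⧸ R) = (f : G ⧸ R) * (e : G ⧸ R) := by
      rw [← QuotientGroup.mk_mul, hef, QuotientGroup.mk_mul]
    have hNle : Nat.card N ≤ NB :=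
      minimal_normal_bound (hG' (G ⧸ R) hdR) N hN0 hmin heven he' (cb e h1)
    have hin : ∀ x : G, Nat.card (Subgroup.centralizer ({x} : Set G)) ≤ c → (x : G ⧸ R) ∈ N →
        Nat.card (G ⧸ R) ≤ NB * c₁ := by
      intro x hx hxN
      have hmap : ∀ q : G ⧸ R, q * (x : G ⧸ R) * q⁻¹ ∈ N := fun q => hNn.conj_mem _ hxN q
      let φ : G ⧸ R → N := fun q => ⟨_, hmap q⟩
      let rep : G ⧸ R → G ⧸ R := fun q => Function.invFun φ (φ q)
      have hrep : ∀ q, φ (rep q) = φ q := fun q => Function.invFun_eq ⟨q, rfl⟩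
      let ψ : G ⧸ R → N × Subgroup.centralizer ({(x : G ⧸ R)} : Set (G ⧸ R)) := fun q =>
        (φ q, ⟨(rep q)⁻¹ * q, by
          have h : rep q * (x : G ⧸ R) * (rep q)⁻¹ = q * x * q⁻¹ := congrArg Subtype.val (hrep q)
          rw [Subgroup.mem_centralizer_singleton_iff]
          calc (rep q)⁻¹ * q * (x : G ⧸ R) = (rep q)⁻¹ * (q * x * q⁻¹) * q := by group
            _ = (x : G ⧸ R) * ((rep q)⁻¹ * q) := by rw [← h]; group⟩)
      have hψ : Function.Injective ψ := by
        intro q q' hqq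
        simp only [ψ, Prod.mk.injEq, Subtype.mk.injEq] at hqq
        have : rep q = rep q' := by simp only [rep, hqq.1]
        rw [this] at hqq
        exact mul_left_cancel hqq.2
      refine (Nat.card_le_card_of_injective ψ hψ).trans ?_
      rw [Nat.card_prod]
      exact Nat.mul_le_mul hNle (cb x hx)
    by_cases hcase : (e : G ⧸ R) ∈ N ∨ (f : G ⧸ R) ∈ N ∨ ((e * f : G) : G ⧸ R) ∈ N
    · have : Nat.card (G ⧸ R) ≤ NB * c₁ := by
        rcases hcase with h | h | h
        exacts [hin e h1 h, hin f h2 h, hin (e * f) h3 h]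
      omega
    push Not at hcase
    obtain ⟨k1, k2, k3⟩ := hcase
    have cb' : ∀ x : G, Nat.card (Subgroup.centralizer ({x} : Set G)) ≤ c →
        Nat.card (Subgroup.centralizer ({((x : G ⧸ R) : (G ⧸ R) ⧸ N)} : Set ((G ⧸ R) ⧸ N))) ≤
          c₁ * NB := fun x hx =>
      (card_centralizer_quotient_le N _).trans (Nat.mul_le_mul (cb x hx) hNle)
    have hne' : ((e : G ⧸ R) : (G ⧸ R) ⧸ N) ≠ ((f : G ⧸ R) : (G ⧸ R) ⧸ N) := by
      rw [Ne, QuotientGroup.eq]
      intro h
      refine k3 ?_
      rwa [inv_eq_of_mul_eq_one_right he', ← QuotientGroup.mk_mul] at h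
    have hdiv : ¬ 2 ^ (a + 1) ∣ Nat.card ((G ⧸ R) ⧸ N) := by
      intro h
      refine hG' (G ⧸ R) hdR ?_
      rw [pow_succ, Subgroup.card_eq_card_quotient_mul_card_subgroup N]
      exact Nat.mul_dvd_mul h heven
    have hB' := hB ((G ⧸ R) ⧸ N) _ _ hdiv (by rw [← QuotientGroup.mk_mul, he']; rfl)
      (by rw [← QuotientGroup.mk_mul, hf']; rfl)
      (by rw [← QuotientGroup.mk_mul, hef', QuotientGroup.mk_mul])
      (fun h => k1 ((QuotientGroup.eq_one_iff _).1 h)) (fun h => k2 ((QuotientGroup.eq_one_iff _).1 h))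
      hne' (cb' e h1) (cb' f h2)
      (by rw [← QuotientGroup.mk_mul, ← QuotientGroup.mk_mul]; exact cb' (e * f) h3)
    rw [Subgroup.card_eq_card_quotient_mul_card_subgroup N]
    exact (Nat.mul_le_mul hB' hNle).trans (Nat.le_add_right _ _)

end CfsgLib.Bounded
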