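import Cfsg.Agent.Lib.Bounded.ClassNumber
import Cfsg.Agent.Lib.Bounded.Fowler
import Cfsg.Agent.Lib.Blocks12.Bounds
import Cfsg.Agent.Lib.Blocks.InflateBlocks
import Cfsg.Agent.Lib.Blocks.DefectInduced
import Cfsg.Agent.Lib.Blocks.ThirdMain
import Cfsg.Agent.Lib.Characters.LinearTwist
import Cfsg.Agent.Lib.Characters.Values

/-!
# Few non-principal 2-blocks of large defect bound the group order
-/

set_option autoImplicit false
set_option linter.style.haveILetI false

namespace CfsgLib.Bounded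

open Cfsg CfsgLib.Characters CfsgLib.Blocks

universe u

/-- Every non-principal block has defect less than `r`. -/
def SmallDefect (M : Ideal AlgInt) (r : ℕ) (G : Type u) [Group G] : Prop :=
  ∀ B : Set (IrrCharacter G), IsPBlock M B → B ≠ principalBlock M G → blockDefect 2 B < r

theorem isPBlock_principal (M : Ideal AlgInt) (G : Type u) [Group G] :
    IsPBlock M (principalBlock M G) :=
  ⟨principalIrr G, principalBlock_eq M⟩

theorem one_block_bound (a : ℕ) : ∃ N : ℕ, ∀ (G : Type u) [Group G] [Finite G] (M : Ideal AlgInt),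
    IsPModular 2 M → ¬ 2 ^ (a + 1) ∣ Nat.card G → SmallDefect M 0 G → Nat.card G ≤ N := by
  haveI : Fact (Nat.Prime 2) := ⟨Nat.prime_two⟩
  obtain ⟨N, hN⟩ := exists_order_bound.{u} (2 ^ (2 * a) + 4)
  refine ⟨N, fun G _ _ M hM ha hB => hN G ?_⟩
  haveI : Fintype G := Fintype.ofFinite G
  haveI : Fintype (ConjClasses G) := Fintype.ofFinite _
  have huniv : principalBlock M G = Set.univ := by
    refine Set.eq_univ_of_forall fun χ => ?_
    by_contra h
    refine Nat.not_lt_zero _ (hB _ (isPBlock_blockOf χ) fun he => h ?_)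
    rw [← he]
    exact mem_blockOf_self hM χ
  have h1 := CfsgLib.Contribution.card_bound hM (isPBlock_principal M G)
  have h2 : Nat.card (principalBlock M G) = Nat.card (ConjClasses G) := by
    rw [huniv, Nat.card_univ, card_irr_eq_card_conjClasses]
  have h3 : blockDefect 2 (principalBlock M G) ≤ a := by
    refine (Nat.sub_le _ _).trans ?_
    by_contra hlt
    exact ha ((Nat.prime_two.pow_dvd_iff_le_factorization Nat.card_pos.ne').2 (by omega))
  have h4 : 2 ^ (2 * blockDefect 2 (principalBlock M G)) ≤ 2 ^ (2 * a) :=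
    Nat.pow_le_pow_right (by norm_num) (by omega)
  omega

variable {G : Type u} [Group G] [Finite G] {M : Ideal AlgInt} {r : ℕ} {t : G}

theorem smallDefect_centralizer (hM : IsPModular 2 M) (ht : t * t = 1) (h : SmallDefect M r G) :
    SmallDefect M r (Subgroup.centralizer ({t} : Set G)) := by
  intro b hb hne
  haveI : Fact (Nat.Prime 2) := ⟨Nat.prime_two⟩
  letI : Fintype G := Fintype.ofFinite G
  letI : Fintype (Subgroup.centralizer ({t} : Set G)) := Fintype.ofFinite _
  have hx : ∃ k : ℕ, orderOf t = 2 ^ k := by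
    obtain ⟨k, -, hk⟩ := (Nat.dvd_prime_pow Nat.prime_two (m := 1)).1
      (orderOf_dvd_of_pow_eq_one (x := t) (n := 2 ^ 1) (by rw [pow_one, sq]; exact ht))
    exact ⟨k, hk⟩
  obtain ⟨B, hB⟩ := inducedBlockDefined_centralizer hM hx hb
  have hBne : B ≠ principalBlock M G := fun he =>
    hne ((isInducedBlock_principal_iff hM _ ⟨B, hB⟩).1 (he ▸ hB))
  refine lt_of_le_of_lt ?_ (h B hB.2.1 hBne)
  obtain ⟨D, hD⟩ := exists_isDefectGroup hM hb
  obtain ⟨E, hE, hle⟩ := exists_defectGroup_map_le hM hB hD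
  have h1 := Subgroup.card_dvd_of_le hle
  rw [Subgroup.card_map_of_injective (Subgroup.subtype_injective _),
    CfsgLib.BlockCover.natCard_defect hM hb hD, CfsgLib.BlockCover.natCard_defect hM hB.2.1 hE] at h1
  exact (Nat.pow_dvd_pow_iff_le_right (by norm_num)).1 h1

theorem smallDefect_quotient (hM : IsPModular 2 M) (P : Subgroup G) [P.Normal]
    (hP : Nat.card P = 2) (hcen : P ≤ Subgroup.center G) (h : SmallDefect M r G) :
    SmallDefect M (r - 1) (G ⧸ P) := by
  intro bb hbb hne
  haveI : Fact (Nat.Prime 2) := ⟨Nat.prime_two⟩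
  letI : Fintype G := Fintype.ofFinite G
  letI : Fintype (G ⧸ P) := Fintype.ofFinite _
  have hPp : IsPGroup 2 P := IsPGroup.of_card (n := 1) (by rw [hP, pow_one])
  have hC : ∃ k : ℕ, (Subgroup.centralizer (P : Set G)).index = 2 ^ k := ⟨0, by
    rw [pow_zero, Subgroup.index_eq_one]
    exact Subgroup.centralizer_eq_top_iff_subset.2 hcen⟩
  obtain ⟨η, rfl⟩ := hbb
  let χ : IrrCharacter G := CfsgLib.Chars17.infl P η
  have hB : blockOf M (χ : G → ℂ) ≠ principalBlock M G := by
    intro he
    refine hne ?_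
    have h1 : SameBlock M (principalIrr G : G → ℂ) (χ : G → ℂ) := by
      have := he ▸ mem_blockOf_self hM χ
      exact this
    have h2 : SameBlock M (principalIrr (G ⧸ P) : G ⧸ P → ℂ) (η : G ⧸ P → ℂ) :=
      (sameBlock_infl_iff P hM hPp hC (principalIrr (G ⧸ P)) η).2 h1
    rw [principalBlock_eq]
    exact blockOf_eq_of_sameBlock hM (SameBlock.symm hM h2)
  have h1 := h _ (isPBlock_blockOf χ) hB
  set Sb := (fun ψ : IrrCharacter (G ⧸ P) => (charDegree (ψ : G ⧸ P → ℂ)).factorization 2) ''
    blockOf M (η : G ⧸ P → ℂ)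
  set S := (fun ψ : IrrCharacter G => (charDegree (ψ : G → ℂ)).factorization 2) ''
    blockOf M (χ : G → ℂ)
  have hsub : Sb ⊆ S := by
    rintro _ ⟨ψ, hψ, rfl⟩
    refine ⟨CfsgLib.Chars17.infl P ψ, (sameBlock_infl_iff P hM hPp hC η ψ).1 hψ, ?_⟩
    simp only [charDegree, CfsgLib.Chars17.infl_apply, QuotientGroup.mk_one]
  have hmem : sInf Sb ∈ Sb :=
    Nat.sInf_mem ⟨_, η, mem_blockOf_self hM η, rfl⟩
  have hle : sInf S ≤ sInf Sb := Nat.sInf_le (hsub hmem)
  have hdeg : sInf Sb ≤ (Nat.card (G ⧸ P)).factorization 2 := by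
    obtain ⟨ψ, -, hψ⟩ := hmem
    obtain ⟨n, hn0, hn⟩ := irr_exists_degree ψ.2
    rw [← hψ]
    simp only [CfsgLib.LinearTwist.charDegree_eq_of_apply_one hn]
    obtain ⟨m, hm, -, hdvd⟩ := irr_degree_dvd_card ψ
    rw [hn, Nat.cast_inj] at hm
    subst hm
    exact (Nat.factorization_le_iff_dvd hn0.ne' Nat.card_pos.ne').2 hdvd 2
  have hcard : (Nat.card G).factorization 2 = (Nat.card (G ⧸ P)).factorization 2 + 1 := by
    rw [Subgroup.card_eq_card_quotient_mul_card_subgroup P, hP,
      Nat.factorization_mul Nat.card_pos.ne' (by norm_num), Finsupp.add_apply,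
      Nat.Prime.factorization_self Nat.prime_two]
  unfold blockDefect at h1 ⊢
  change _ - sInf S < r at h1
  show _ - sInf Sb < r - 1
  omega

/-- An elementary abelian subgroup of order at least `2 ^ (r + 1)`. -/
def HasElem (G : Type u) [Group G] (r : ℕ) : Prop :=
  ∃ E : Subgroup G, (∀ x ∈ E, x * x = 1) ∧ (∀ x ∈ E, ∀ y ∈ E, x * y = y * x) ∧
    Nat.card E = 2 ^ (r + 1)

theorem defect_bound : ∀ r a : ℕ, ∃ N : ℕ, ∀ (G : Type u) [Group G] [Finite G] (M : Ideal AlgInt),
    IsPModular 2 M → ¬ 2 ^ (a + 1) ∣ Nat.card G → SmallDefect M r G → HasElem G r →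
      Nat.card G ≤ N := by
  intro r
  induction r with
  | zero =>
    intro a
    obtain ⟨N, hN⟩ := one_block_bound.{u} a
    exact ⟨N, fun G _ _ M hM ha h _ => hN G M hM ha h⟩
  | succ r ih =>
    intro a
    classical
    obtain ⟨c, hc⟩ := ih a
    obtain ⟨B, hB⟩ := four_bound.{u} a (c * 2)
    refine ⟨B, fun G _ _ M hM ha hsd hE => ?_⟩
    obtain ⟨E, hsq, hcomm, hcard⟩ := hE
    haveI : Fact (Nat.Prime 2) := ⟨Nat.prime_two⟩
    have hcb : ∀ t ∈ E, t ≠ 1 → Nat.card (Subgroup.centralizer ({t} : Set G)) ≤ c * 2 := by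
      intro t htE ht1
      set H := Subgroup.centralizer ({t} : Set G) with hH
      let tH : H := ⟨t, Subgroup.mem_centralizer_singleton_iff.2 rfl⟩
      have hord : orderOf t = 2 := orderOf_eq_prime (by rw [sq]; exact hsq t htE) ht1
      set P : Subgroup H := Subgroup.zpowers tH with hP
      have hPc : P ≤ Subgroup.center H := Subgroup.zpowers_le.2 (Subgroup.mem_center_iff.2 fun y =>
        Subtype.ext (Subgroup.mem_centralizer_singleton_iff.1 y.2))
      haveI : P.Normal := ⟨fun n hn g => by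
        rw [Subgroup.mem_center_iff.1 (hPc hn) g, mul_inv_cancel_right]; exact hn⟩
      have hP2 : Nat.card P = 2 := by
        rw [hP, Nat.card_zpowers, ← hord, ← Subgroup.orderOf_coe]
      have hdiv : ¬ 2 ^ (a + 1) ∣ Nat.card (H ⧸ P) := fun h =>
        ha (h.trans ((Dvd.intro _ (Subgroup.card_eq_card_quotient_mul_card_subgroup P).symm).trans
          (Subgroup.card_subgroup_dvd_card H)))
      have hEH : E ≤ H := fun x hx =>
        Subgroup.mem_centralizer_singleton_iff.2 (hcomm x hx t htE)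
      set E' : Subgroup H := E.subgroupOf H
      have hker : P ≤ E' := Subgroup.zpowers_le.2 htE
      have hel : HasElem (H ⧸ P) r := by
        refine ⟨E'.map (QuotientGroup.mk' P), ?_, ?_, ?_⟩
        · rintro _ ⟨x, hx, rfl⟩
          rw [← map_mul, show x * x = 1 from Subtype.ext (hsq x hx), map_one]
        · rintro _ ⟨x, hx, rfl⟩ _ ⟨y, hy, rfl⟩
          rw [← map_mul, ← map_mul, show x * y = y * x from Subtype.ext (hcomm x hx y hy)]
        · have h1 : Nat.card E' = 2 ^ (r + 1 + 1) := by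
            rw [Nat.card_congr (Subgroup.subgroupOfEquivOfLe hEH).toEquiv, hcard]
          have h2 := Subgroup.card_eq_card_quotient_mul_card_subgroup (P.subgroupOf E')
          rw [h1, Nat.card_congr (Subgroup.subgroupOfEquivOfLe hker).toEquiv, hP2, pow_succ] at h2
          have h3 : P.relIndex E' = 2 ^ (r + 1) := by
            rw [Subgroup.relIndex, Subgroup.index]
            omega
          rw [← h3, ← Subgroup.relIndex_bot_left, ← Subgroup.map_bot (QuotientGroup.mk' P),
            Subgroup.relIndex_map_map, bot_sup_eq, QuotientGroup.ker_mk', sup_eq_left.2 hker]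
      have h := hc (H ⧸ P) M hM hdiv
        (smallDefect_quotient hM P hP2 hPc (smallDefect_centralizer hM (hsq t htE) hsd)) hel
      rw [Subgroup.card_eq_card_quotient_mul_card_subgroup P, hP2]
      exact Nat.mul_le_mul_right 2 h
    haveI : Fintype E := Fintype.ofFinite E
    have hE4 : 2 < Fintype.card E := by
      rw [← Nat.card_eq_fintype_card, hcard, pow_succ, pow_succ]
      have := Nat.one_le_two_pow (n := r)
      omega
    obtain ⟨e, he1⟩ : ∃ e : E, e ≠ 1 :=
      Fintype.exists_ne_of_one_lt_card (by omega) 1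
    obtain ⟨f, hf⟩ : ∃ f : E, f ∉ ({1, e} : Finset E) :=
      by
        by_contra! hall
        exact absurd ((Finset.eq_univ_of_forall hall) ▸ Finset.card_le_two : Finset.univ.card ≤ 2)
          (by rw [Finset.card_univ]; omega)
    simp only [Finset.mem_insert, Finset.mem_singleton, not_or] at hf
    have he : (e : G) ≠ 1 := fun h => he1 (Subtype.ext h)
    have hf1 : (f : G) ≠ 1 := fun h => hf.1 (Subtype.ext h)
    have hef : (e : G) ≠ f := fun h => hf.2 (Subtype.ext h).symm
    refine hB G e f ha (hsq _ e.2) (hsq _ f.2) (hcomm _ e.2 _ f.2) he hf1 hef (hcb _ e.2 he)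
      (hcb _ f.2 hf1) (hcb _ (mul_mem e.2 f.2) fun h => hef ?_)
    rw [← mul_one (e : G), ← hsq _ f.2, ← mul_assoc, h, one_mul]

end CfsgLib.Bounded
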